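import Groth.Agent.Lib.Curves.BaseChange
import Groth.Agent.Lib.Curves.LES
import Groth.Agent.Lib.HomSheaf.Ext
import Groth.Agent.Lib.Snapper.Finite
import Mathlib.LinearAlgebra.Dimension.OrzechProperty

/-!
# Degree zero cohomology as morphisms out of `O`; its behaviour under extension of the field
-/

set_option autoImplicit false
universe u

open CategoryTheory CategoryTheory.Limits AlgebraicGeometry Opposite

noncomputable section

namespace Groth.Agent.Lib.ShStab.Descent.Sections

open Groth.Agent.Lib Curves.GlobalSections Curves.LES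

section

variable {X : Scheme.{u}} (k : Type u) [Field k] [X.Over (Spec (CommRingCat.of k))]

/-- `Hom(O, M) ≃ H⁰(M)`. -/
def E0 (M : X.Modules) : (Coh.structureModule X ⟶ M) ≃ Coh.HH X M 0 :=
  (HomSheaf.Ext.secEquiv M).trans (h0Equiv M).toEquiv.symm

theorem h0Equiv_natural {M N : X.Modules} (f : M ⟶ N) (x : Coh.HH X M 0) :
    h0Equiv N (mapK k f 0 x) = (f.app ⊤).hom (h0Equiv M x) :=
  (Sheaf.H.equiv₀_naturality (f := toAbMap f) (hT := isTerminalTop (α := TopologicalSpace.Opens X))
    x).symm

theorem E0_comp {M N : X.Modules} (φ : Coh.structureModule X ⟶ M) (f : M ⟶ N) :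
    E0 N (φ ≫ f) = mapK k f 0 (E0 M φ) := by
  apply (h0Equiv N).injective
  rw [h0Equiv_natural]
  refine ((h0Equiv N).apply_symm_apply _).trans ?_
  refine Eq.trans ?_ (congrArg (f.app ⊤).hom ((h0Equiv M).apply_symm_apply _).symm)
  rfl

end

variable {k K : Type u} [Field k] [Field K] [Algebra k K] {X X' : Scheme.{u}}
  [X.Over (Spec (CommRingCat.of k))] [X'.Over (Spec (CommRingCat.of K))] {g : X' ⟶ X}
  (h : IsPullback g (X' ↘ Spec (CommRingCat.of K)) (X ↘ Spec (CommRingCat.of k))
    (Spec.map (CommRingCat.ofHom (algebraMap k K))))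

variable (g) in
/-- Pullback of `H⁰`-classes. -/
def bcH (M : X.Modules) (x : Coh.HH X M 0) : Coh.HH X' ((Scheme.Modules.pullback g).obj M) 0 :=
  (h0Equiv _).symm
    (show (((Scheme.Modules.pullback g).obj M).val.obj (op ⊤) : Type u) from
      ProjUP.pullSec g M (h0Equiv M x))

variable (k K) in
theorem bcH_natural {M N : X.Modules} (f : M ⟶ N) (x : Coh.HH X M 0) :
    bcH g N (mapK k f 0 x) = mapK K ((Scheme.Modules.pullback g).map f) 0 (bcH g M x) := by
  apply (h0Equiv _).injective
  rw [h0Equiv_natural]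
  show h0Equiv _ ((h0Equiv _).symm _) = _
  rw [AddEquiv.apply_symm_apply]
  show ProjUP.pullSec g N (h0Equiv N (mapK k f 0 x)) = (((Scheme.Modules.pullback g).map f).app ⊤).hom
    (h0Equiv _ ((h0Equiv _).symm _))
  rw [AddEquiv.apply_symm_apply, h0Equiv_natural]
  exact congrArg (fun t => (t.app ⊤).hom (h0Equiv M x))
    ((Scheme.Modules.pullbackPushforwardAdjunction g).unit.naturality f)

omit [X'.Over (Spec (CommRingCat.of K))] [X.Over (Spec (CommRingCat.of k))] in
theorem bcH_add (M : X.Modules) (x y : Coh.HH X M 0) :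
    bcH g M (x + y) = bcH g M x + bcH g M y := by
  apply (h0Equiv _).injective
  rw [map_add]
  show h0Equiv _ ((h0Equiv _).symm _) = h0Equiv _ ((h0Equiv _).symm _) + h0Equiv _ ((h0Equiv _).symm _)
  rw [AddEquiv.apply_symm_apply, AddEquiv.apply_symm_apply, AddEquiv.apply_symm_apply, map_add]
  exact map_add (((Scheme.Modules.pullbackPushforwardAdjunction g).unit.app M).app ⊤).hom _ _

include h in
theorem bcH_smul (M : X.Modules) (c : k) (x : Coh.HH X M 0) :
    bcH g M (c • x) = algebraMap k K c • bcH g M x := by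
  letI := secModule k M
  letI := secModule K ((Scheme.Modules.pullback g).obj M)
  apply (h0Linear K _).injective
  rw [map_smul]
  show h0Equiv _ ((h0Equiv _).symm _) = _ • h0Equiv _ ((h0Equiv _).symm _)
  rw [AddEquiv.apply_symm_apply, AddEquiv.apply_symm_apply]
  refine Eq.trans (congrArg (fun t => (show (((Scheme.Modules.pullback g).obj M).val.obj (op ⊤) :
    Type u) from ProjUP.pullSec g M t)) ((h0Linear k M).map_smul c x)) ?_
  exact Curves.BaseChange.pullSec_smul h M c (h0Equiv M x)

include h in
/-- A basis pulls back to a basis. -/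
theorem exists_basis [IsProper (X ↘ Spec (CommRingCat.of k))] {M : X.Modules} (hM : Coh.IsCoh M)
    {D : ℕ} (b : Module.Basis (Fin D) k (Coh.HH X M 0)) :
    ∃ bK : Module.Basis (Fin D) K (Coh.HH X' ((Scheme.Modules.pullback g).obj M) 0),
      ∀ i, bK i = bcH g M (b i) := by
  haveI := isNoetherian_of_proper k X
  haveI := hM.1
  letI := secModule k M
  letI := secModule K ((Scheme.Modules.pullback g).obj M)
  let e := h0Linear k M
  let e' := h0Linear K ((Scheme.Modules.pullback g).obj M)
  have hsp : Submodule.span K (Set.range fun i => bcH g M (b i)) = ⊤ := by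
    have h1 := Curves.BaseChange.span_pullSec_of_span h M (fun i => e (b i))
      (b.map e).span_eq
    have h2 := congrArg (Submodule.map e'.symm.toLinearMap) h1
    rw [Submodule.map_span, Submodule.map_top, LinearEquiv.range, ← Set.range_comp] at h2
    exact h2
  have hcard : Module.finrank K (Coh.HH X' ((Scheme.Modules.pullback g).obj M) 0) = D := by
    rw [Curves.BaseChange.finrank_HH h M 0, Module.finrank_eq_card_basis b, Fintype.card_fin]
  refine ⟨Module.Basis.mk (v := fun i => bcH g M (b i)) ?_ hsp.ge, fun i => Module.Basis.mk_apply _ _ i⟩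
  exact linearIndependent_of_top_le_span_of_card_le_finrank hsp.ge (by simp [hcard])

omit [Field k] [Field K] [Algebra k K] in
/-- Matrices of maps are unchanged by extension of scalars. -/
theorem toMatrix_bc {k K : Type u} [Field k] [Field K] [Algebra k K] {V W V' W' : Type u}
    [AddCommGroup V] [Module k V] [AddCommGroup W] [Module k W] [AddCommGroup V'] [Module K V']
    [AddCommGroup W'] [Module K W'] (f : V →ₗ[k] W) (f' : V' →ₗ[K] W') (βV : V → V') (βW : W →+ W')
    (hs : ∀ (c : k) (w : W), βW (c • w) = algebraMap k K c • βW w)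
    (hf : ∀ v, f' (βV v) = βW (f v)) {D D' : ℕ}
    (b : Module.Basis (Fin D) k V) (b' : Module.Basis (Fin D') k W)
    (bK : Module.Basis (Fin D) K V') (bK' : Module.Basis (Fin D') K W')
    (hb : ∀ i, bK i = βV (b i)) (hb' : ∀ i, bK' i = βW (b' i)) (x : V') :
    bK'.equivFun (f' x) =
      ((LinearMap.toMatrix b b' f).map (algebraMap k K)).mulVec (bK.equivFun x) := by
  have key : (LinearMap.toMatrix b b' f).map (algebraMap k K) = LinearMap.toMatrix bK bK' f' := by
    ext i j
    rw [Matrix.map_apply, LinearMap.toMatrix_apply, LinearMap.toMatrix_apply, hb, hf]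
    conv_rhs => rw [← b'.sum_repr (f (b j))]
    simp only [map_sum, hs, ← hb', map_smul, Module.Basis.repr_self, Finsupp.coe_finsetSum,
      Finsupp.coe_smul, Finset.sum_apply, Pi.smul_apply, smul_eq_mul]
    rw [Finset.sum_eq_single i (fun z _ hz => by simp [Finsupp.single_eq_of_ne, hz.symm])
      (fun hz => absurd (Finset.mem_univ i) hz)]
    simp
  rw [key]
  exact (LinearMap.toMatrix_mulVec_repr bK bK' f' x).symm

/-- The additive form of the pullback. -/
def bcHom (g : X' ⟶ X) (M : X.Modules) :
    Coh.HH X M 0 →+ Coh.HH X' ((Scheme.Modules.pullback g).obj M) 0 :=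
  AddMonoidHom.mk' (bcH g M) (bcH_add M)

end Groth.Agent.Lib.ShStab.Descent.Sections
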